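import Cfsg.Agent.HN133.OrbB.Facts0

/-! Generated: the orbit. -/

set_option autoImplicit false
set_option maxRecDepth 100000

namespace CfsgLib.HN133.OrbB

open CfsgLib.CosetEnum

theorem facts : FactsChecked epF (fun x => x ^^^ 1) words 12 109 :=
  (factsUpTo109 FactsChecked.zero)

theorem paths0 : checkPaths epF (fun x => x ^^^ 1) 109 orbitWords 1 nodeF nextF 1 0 [0x7000d9000080000200004] = true := by
  decide +kernel

theorem paths : PathsChecked epF (fun x => x ^^^ 1) 109 orbitWords 1 nodeF nextF 1 1 :=
  (PathsChecked.app _ 1 PathsChecked.zero paths0 rfl)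

theorem node_zero : nodeF 0 = 0 := by decide +kernel

end CfsgLib.HN133.OrbB
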