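import Cfsg.Agent.CosetEnum.Orbit

/-! Generated orbit certificate: x^4 lies in <x y>. -/

set_option autoImplicit false
set_option maxRecDepth 100000

namespace CfsgLib.HN133.OrbB

open CfsgLib.CosetEnum

noncomputable def epFLeaf (c : ℕ) : ℕ :=
  0x1010000300000ff0000900000c000004000023f0000400002030000d000037f0001100003400001000005ff0001000005c20001b00008ff0001b00008c2000290000dff000290000dc20002a0000abf000380000a800003a0000f3f0003a0000f0300042000117f0004200011430004d00014bf0004d00015c00005500015c10005000015420005300015430004a00014c00005200014c10004800014820004500014020004e00014030004900013810004d00013800004800013420004200012c10004a00012c00004900012830004000012430003e00012020003d00011810004500011800003d00011420003c00010c00004200010c10003d00010820003a00010000003f0001001000330000fc3000300000f80000330000f420002e0000f010002a0000e81000380000e80000260000e03000370000e02000340000dc3000230000d40000340000d41000240000d02000200000cc30001f0000c41000300000c400001f0000c030001e0000b800002a0000b81000260000b01000290000b00000250000a83000290000a82000280000a430001b0000a020001a00009830002500009820002400009430001900009020001800008c30001700008410002000008400001800008020001700007c30001500007810001400007000001b00007010001900006c30001000006820001000006430000e00006020000e00005c10000d00005400001400005410001300005030000a00004c30000700004400001000004420000800004000000600003800000d00003810000600003420000400002c10000a00002c00000700002830000300002400000400002010000300001c30000100001820000000001020000300001000000100000c100000000000200001000004000000000003f00000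

/-- table entries -/
noncomputable def epF (i : ℕ) : ℕ :=
  ((epFLeaf (i >>> 9)) >>> (48 * (i % 512))) % 281474976710656

noncomputable def nodeFLeaf (c : ℕ) : ℕ :=
  0x0

/-- table entries -/
noncomputable def nodeF (i : ℕ) : ℕ :=
  ((nodeFLeaf (i >>> 10)) >>> (20 * (i % 1024))) % 1048576

noncomputable def nextFLeaf (c : ℕ) : ℕ :=
  0x0

/-- table entries -/
noncomputable def nextF (i : ℕ) : ℕ :=
  ((nextFLeaf (i >>> 10)) >>> (20 * (i % 1024))) % 1048576

/-- relators, then generators of the subgroup -/
def words : List (List ℕ) := [[2, 2, 2, 2, 2, 2], [0, 0, 2, 0, 0, 3], [1, 3, 0, 2, 1, 3, 0, 2, 1, 3, 0, 2], [1, 2, 2, 0, 2, 2, 2, 1, 2, 2, 0, 2, 2, 2, 1, 2, 2, 0, 2, 2, 2], [0, 2, 0, 2, 0, 2, 0, 2, 0, 2, 0, 2, 0, 2, 0, 2], [0, 2, 0, 2, 2, 2, 0, 2, 0, 2, 2, 2, 0, 2, 0, 2, 2, 2, 0, 2, 0, 2, 2, 2], [3, 3, 3, 3, 3, 3], [2, 1, 1, 3, 1, 1], [3, 1, 2, 0, 3, 1, 2, 0, 3, 1, 2, 0], [3, 3, 3, 1, 3, 3, 0, 3, 3, 3, 1, 3, 3, 0, 3, 3, 3, 1, 3, 3, 0], [3, 1, 3, 1, 3, 1, 3, 1, 3, 1, 3, 1, 3, 1, 3, 1], [3, 3, 3, 1, 3, 1, 3, 3, 3, 1, 3, 1, 3, 3,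 3, 1, 3, 1, 3, 3, 3, 1, 3, 1], [0, 2]]

/-- the words whose orbit is certified -/
def orbitWords : List (List ℕ) := [[0, 0, 0, 0]]

end CfsgLib.HN133.OrbB
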