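import Cfsg.Agent.HN133.OrbB.Data

/-! Generated: checks of facts. -/

set_option autoImplicit false
set_option maxRecDepth 100000

namespace CfsgLib.HN133.OrbB

open CfsgLib.CosetEnum

theorem facts0 : checkFacts epF (fun x => x ^^^ 1) words 12 0 [0x1, 0x0, 0x200001000000000d00004, 0x0, 0x0, 0x60000300005000030000900000000030000800008, 0x0, 0x0, 0x0, 0x0, 0x0, 0x0, 0x170001400006000030000f00004000070000800008, 0x0, 0x0, 0xd0001d0001a000080000200003000000000200008, 0x0, 0x0, 0x23000200000c000070001100004000080000200008, 0x0, 0x0, 0x0, 0x280001900016000270002b00000000140000200008, 0x0, 0x0, 0x0, 0x0, 0x0, 0x0, 0x36000200001d0003300039000000001b0000200008, 0x0, 0x0, 0x0, 0x0, 0x2e0001f00031000430004000001000170000800008, 0x0, 0x0, 0x0, 0x0, 0x4a0003200031000490004d00005000260000700008, 0x0, 0x0, 0x0, 0x5200036000350005100055000050002a0000700008, 0x0, 0x59000520003b000380004b00004000250000800008, 0x0, 0x560005b000580004f0005d000000002a0000200008, 0x0, 0x0, 0x63000600003c0002d0003f000040001f0000800008, 0x0, 0x0, 0x0, 0x490006b00068000450004200003000180000200008,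 0x0, 0x0, 0x6e0004600041000690007100005000380000700008, 0x0, 0x6d0006a0004d000750007000001000340000800008, 0x0, 0x0, 0x0, 0x0, 0x0, 0x7e00065000620006700081000000003f0000200008, 0x0, 0x0, 0x7b0008700084000740005d000030002e0000200008, 0x0, 0x0, 0x780005f0007b0008d0008a000010003c0000800008, 0x0, 0x0, 0x0, 0x0, 0x9700094000800007d0009300004000490000800008, 0x0, 0x0, 0x8900086000910009d0009a00001000420000800008, 0x0, 0x4c00048000300001e0001a0000a00006000040000f000270002b0003f000670007d00093000a10009c000900007a0005c00004000260000400017, 0x0, 0x0, 0x91000a7000a40008f0008c000030003d0000200008, 0x0, 0x540005000034000200000c00004000090000a00015000290003d000610007f0008300095000ab000a8000a40008a00078000040002a0000400017, 0x0, 0xaa0009900096000a1000af00000000550000200008, 0xa3000af000b0000ac000a80009f000010004e0000200009, 0xa5000b20000000003, 0xb40009a0000000003, 0x8b000b60000000003, 0xb8000840000000003, 0x79000ba0000000003, 0xbc000760000000003, 0x73000bf0000000003, 0xc0000560000000003, 0x6f000c20000000003, 0xc4000520000000003, 0x47000c60000000003, 0xc8000360000000003,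 0x2f000ca0000000003, 0xcc000250000000003, 0x23000cf0000000003, 0xd00001a0000000003, 0x11000d20000000003, 0xd4000130000000003, 0x13000d70000000003] = true := by
  decide +kernel

theorem factsUpTo109 (h : FactsChecked epF (fun x => x ^^^ 1) words 12 0) :
    FactsChecked epF (fun x => x ^^^ 1) words 12 109 :=
  (FactsChecked.app _ 109 h facts0 rfl)

end CfsgLib.HN133.OrbB
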